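import Groth.Prelude.Def_Biext
import Mathlib.CategoryTheory.Sites.LocallyBijective
import Mathlib.Algebra.Category.Grp.Abelian

/-!
# Gluing in a biextension; units and inverses of the second law

Sections of a biextension which are characterised uniquely by local conditions glue.  The second partial law
makes each fibre over a section `p` of `P` a commutative group.
-/

set_option autoImplicit false

universe u

open CategoryTheory Opposite

namespace Groth.Agent.BiextExt27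

variable {C : Type (u + 1)} [Category.{u} C] {J : GrothendieckTopology C}

/-- A locally defined, unique, restriction-stable section glues. -/
theorem glue (E : Sheaf J (Type (u + 1))) {T : C}
    (Rl : ∀ ⦃T' : C⦄, (T' ⟶ T) → E.obj.obj (op T') → Prop)
    (stable : ∀ ⦃T' T'' : C⦄ (f : T' ⟶ T) (g : T'' ⟶ T') (y : E.obj.obj (op T')), Rl f y →
      Rl (g ≫ f) (E.obj.map g.op y))
    (uniq : ∀ ⦃T' : C⦄ (f : T' ⟶ T) (y y' : E.obj.obj (op T')), Rl f y → Rl f y' → y = y')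
    (ex : ∃ R ∈ J T, ∀ ⦃T' : C⦄ (f : T' ⟶ T), R f → ∃ y, Rl f y) :
    ∃! v : E.obj.obj (op T), ∀ ⦃T' : C⦄ (f : T' ⟶ T) (y : E.obj.obj (op T')), Rl f y → E.obj.map f.op v = y := by
  obtain ⟨R, hR, hy⟩ := ex
  choose y hy using hy
  have hS := (isSheaf_iff_isSheaf_of_type _ _).1 E.2
  let x : Presieve.FamilyOfElements E.obj R.arrows := fun T' f hf => y f hf
  have hx : x.Compatible := by
    intro Y₁ Y₂ Z g₁ g₂ f₁ f₂ h₁ h₂ e
    have a₁ := stable f₁ g₁ _ (hy f₁ h₁)
    have a₂ := stable f₂ g₂ _ (hy f₂ h₂)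
    rw [← e] at a₂
    exact uniq _ _ _ a₁ a₂
  obtain ⟨v, hv, -⟩ := hS R hR x hx
  refine ⟨v, fun T' f z hz => ?_, fun v' hv' => ?_⟩
  · refine (hS (R.pullback f) (J.pullback_stable f hR)).isSeparatedFor.ext fun W k hk => ?_
    have e := hv (k ≫ f) hk
    rw [op_comp, Functor.map_comp, ConcreteCategory.comp_apply] at e
    exact e.trans (uniq (k ≫ f) _ _ (hy _ hk) (stable f k z hz))
  · refine (hS R hR).isSeparatedFor.ext fun W k hk => ?_
    exact (hv' k _ (hy k hk)).trans (hv k hk).symm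

/-- The same for an abelian sheaf. -/
theorem glue' (K : Sheaf J AddCommGrpCat.{u + 1}) {T : C}
    (Rl : ∀ ⦃T' : C⦄, (T' ⟶ T) → K.obj.obj (op T') → Prop)
    (stable : ∀ ⦃T' T'' : C⦄ (f : T' ⟶ T) (g : T'' ⟶ T') (y : K.obj.obj (op T')), Rl f y →
      Rl (g ≫ f) (K.obj.map g.op y))
    (uniq : ∀ ⦃T' : C⦄ (f : T' ⟶ T) (y y' : K.obj.obj (op T')), Rl f y → Rl f y' → y = y')
    (ex : ∃ R ∈ J T, ∀ ⦃T' : C⦄ (f : T' ⟶ T), R f → ∃ y, Rl f y) :
    ∃! v : K.obj.obj (op T), ∀ ⦃T' : C⦄ (f : T' ⟶ T) (y : K.obj.obj (op T')), Rl f y → K.obj.map f.op v = y :=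
  glue (Biext.uSh J K) Rl stable uniq ex

/-- Equality of sections is local, for sheaves of sets. -/
theorem ext_set (E : Sheaf J (Type (u + 1))) {T : C} {R : Sieve T} (hR : R ∈ J T)
    {x y : E.obj.obj (op T)} (h : ∀ ⦃T' : C⦄ (f : T' ⟶ T), R f → E.obj.map f.op x = E.obj.map f.op y) : x = y :=
  ((isSheaf_iff_isSheaf_of_type _ _).1 E.2 R hR).isSeparatedFor.ext fun _ f hf => h f hf

/-- Equality of sections is local, for abelian sheaves. -/
theorem ext_ab (F : Sheaf J AddCommGrpCat.{u + 1}) {T : C} {R : Sieve T} (hR : R ∈ J T)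
    {x y : F.obj.obj (op T)} (h : ∀ ⦃T' : C⦄ (f : T' ⟶ T), R f → F.obj.map f.op x = F.obj.map f.op y) : x = y :=
  ext_set (Biext.uSh J F) hR h

theorem res_comp (F : Sheaf J AddCommGrpCat.{u + 1}) {T T' T'' : C} (f : T' ⟶ T) (g : T'' ⟶ T')
    (x : F.obj.obj (op T)) : F.obj.map (g ≫ f).op x = F.obj.map g.op (F.obj.map f.op x) := by
  rw [op_comp, Functor.map_comp, ConcreteCategory.comp_apply]

theorem res_id (F : Sheaf J AddCommGrpCat.{u + 1}) {T : C} (x : F.obj.obj (op T)) :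
    F.obj.map (𝟙 T).op x = x := by
  rw [op_id, F.obj.map_id]
  rfl

variable {P Q G : Sheaf J AddCommGrpCat.{u + 1}} (B : Biext J P Q G)

theorem act_inj {T : C} (x : B.E.obj.obj (op T)) {g g' : G.obj.obj (op T)}
    (h : B.act T g x = B.act T g' x) : g = g' :=
  (B.existsUnique_act T x (B.act T g x) (B.πP_act T g x).symm (B.πQ_act T g x).symm).unique rfl h.symm

theorem exists_act {T : C} {x y : B.E.obj.obj (op T)} (hP : B.πP T x = B.πP T y) (hQ : B.πQ T x = B.πQ T y) :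
    ∃ g : G.obj.obj (op T), B.act T g x = y :=
  (B.existsUnique_act T x y hP hQ).exists

theorem add₂_congr {T : C} {x x' y y' : B.E.obj.obj (op T)} (hx : x = x') (hy : y = y')
    (h : B.πP T x = B.πP T y) :
    B.add₂ T x y h = B.add₂ T x' y' ((congrArg (B.πP T) hx).symm.trans (h.trans (congrArg (B.πP T) hy))) := by
  subst hx hy
  rfl

theorem add₁_congr {T : C} {x x' y y' : B.E.obj.obj (op T)} (hx : x = x') (hy : y = y')
    (h : B.πQ T x = B.πQ T y) :
    B.add₁ T x y h = B.add₁ T x' y' ((congrArg (B.πQ T) hx).symm.trans (h.trans (congrArg (B.πQ T) hy))) := by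
  subst hx hy
  rfl

theorem add₂_act_right {T : C} (g : G.obj.obj (op T)) (x z : B.E.obj.obj (op T)) (h : B.πP T x = B.πP T z) :
    B.add₂ T x (B.act T g z) (h.trans (B.πP_act T g z).symm) = B.act T g (B.add₂ T x z h) := by
  rw [B.add₂_comm T x (B.act T g z), B.add₂_act T g z x h.symm, B.add₂_comm T z x h.symm]

theorem add₁_act_right {T : C} (g : G.obj.obj (op T)) (x z : B.E.obj.obj (op T)) (h : B.πQ T x = B.πQ T z) :
    B.add₁ T x (B.act T g z) (h.trans (B.πQ_act T g z).symm) = B.act T g (B.add₁ T x z h) := by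
  rw [B.add₁_comm T x (B.act T g z), B.add₁_act T g z x h.symm, B.add₁_comm T z x h.symm]

/-- Two sections of `P`, one of `Q`: simultaneous local lifts. -/
theorem lifts₂ (T : C) (p p' : P.obj.obj (op T)) (q q' : Q.obj.obj (op T)) : ∃ R ∈ J T,
    ∀ ⦃T' : C⦄ (f : T' ⟶ T), R f → ∃ x z : B.E.obj.obj (op T'),
      (B.πP T' x = P.obj.map f.op p ∧ B.πQ T' x = Q.obj.map f.op q) ∧
      (B.πP T' z = P.obj.map f.op p' ∧ B.πQ T' z = Q.obj.map f.op q') := by
  obtain ⟨R, hR, hx⟩ := B.locallySurjective T p q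
  obtain ⟨R', hR', hz⟩ := B.locallySurjective T p' q'
  refine ⟨R ⊓ R', J.intersection_covering hR hR', fun T' f hf => ?_⟩
  obtain ⟨x, hx⟩ := hx f hf.1
  obtain ⟨z, hz⟩ := hz f hf.2
  exact ⟨x, z, hx, hz⟩

/-- The idempotents of the second law. -/
def IsUnit₂ {T : C} (e : B.E.obj.obj (op T)) : Prop := B.add₂ T e e rfl = e

theorem IsUnit₂.map {T T' : C} (f : T' ⟶ T) {e : B.E.obj.obj (op T)} (h : IsUnit₂ B e) :
    IsUnit₂ B (B.E.obj.map f.op e) := by
  show B.add₂ T' _ _ _ = _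
  exact (B.add₂_map f e e rfl).symm.trans (congrArg _ h)

theorem IsUnit₂.add_left {T : C} {e : B.E.obj.obj (op T)} (h : IsUnit₂ B e) (he : B.πQ T e = 0)
    (x : B.E.obj.obj (op T)) (hp : B.πP T e = B.πP T x) : B.add₂ T e x hp = x := by
  obtain ⟨g, hg⟩ := exists_act B (x := x) (y := B.add₂ T e x hp)
    (by rw [B.πP_add₂, hp]) (by rw [B.πQ_add₂, he, zero_add])
  have h2 : B.add₂ T e (B.add₂ T e x hp) (B.πP_add₂ T e x hp).symm = B.add₂ T e x hp :=
    (B.add₂_assoc T e e x rfl hp).symm.trans (add₂_congr B h rfl _)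
  rw [add₂_congr B rfl hg.symm _, add₂_act_right B g e x hp, ← hg, ← B.add_act] at h2
  have h3 := act_inj B x h2
  have h4 : g = 0 := by simpa using h3
  rw [← hg, h4, B.zero_act]

theorem isUnit₂_unique {T : C} {e e' : B.E.obj.obj (op T)} (h : IsUnit₂ B e) (h' : IsUnit₂ B e')
    (he : B.πQ T e = 0) (he' : B.πQ T e' = 0) (hp : B.πP T e = B.πP T e') : e = e' := by
  have a := h.add_left B he e' hp
  have b := h'.add_left B he' e hp.symm
  rw [B.add₂_comm] at b
  exact b.symm.trans a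

theorem existsUnique_unit₂ (T : C) (p : P.obj.obj (op T)) :
    ∃! e : B.E.obj.obj (op T), B.πP T e = p ∧ B.πQ T e = 0 ∧ IsUnit₂ B e := by
  obtain ⟨R, hR, hx⟩ := B.locallySurjective T p 0
  let Rl : ∀ ⦃T' : C⦄, (T' ⟶ T) → B.E.obj.obj (op T') → Prop := fun T' f y =>
    B.πP T' y = P.obj.map f.op p ∧ B.πQ T' y = 0 ∧ IsUnit₂ B y
  have hloc : ∀ ⦃T' : C⦄ (f : T' ⟶ T), R f → ∃ y, Rl f y := by
    intro T' f hf
    obtain ⟨x, hxP, hxQ⟩ := hx f hf
    rw [map_zero] at hxQ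
    obtain ⟨g, hg⟩ := exists_act B (x := x) (y := B.add₂ T' x x rfl)
      (B.πP_add₂ T' x x rfl).symm (by rw [B.πQ_add₂, hxQ, add_zero])
    refine ⟨B.act T' (-g) x, (B.πP_act _ _ _).trans hxP, (B.πQ_act _ _ _).trans hxQ, ?_⟩
    show B.add₂ T' (B.act T' (-g) x) (B.act T' (-g) x) _ = _
    rw [B.add₂_act T' (-g) x (B.act T' (-g) x) (B.πP_act T' _ x).symm, add₂_act_right B (-g) x x rfl,
      ← hg, ← B.add_act, ← B.add_act]
    congr 1
    abel
  obtain ⟨e, he, -⟩ := glue B.E Rl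
    (fun T' T'' f g y ⟨a, b, c⟩ => ⟨by rw [B.πP_map, a, res_comp], by rw [B.πQ_map, b, map_zero], c.map B g⟩)
    (fun T' f y y' ⟨a, b, c⟩ ⟨a', b', c'⟩ => isUnit₂_unique B c c' b b' (a.trans a'.symm))
    ⟨R, hR, hloc⟩
  have hP : B.πP T e = p := ext_ab P hR fun T' f hf => by
    obtain ⟨y, hy⟩ := hloc f hf
    rw [← B.πP_map, he f y hy, hy.1]
  have hQ : B.πQ T e = 0 := ext_ab Q hR fun T' f hf => by
    obtain ⟨y, hy⟩ := hloc f hf
    rw [← B.πQ_map, he f y hy, hy.2.1, map_zero]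
  have hU : IsUnit₂ B e := ext_set B.E hR fun T' f hf => by
    obtain ⟨y, hy⟩ := hloc f hf
    rw [B.add₂_map]
    exact (add₂_congr B (he f y hy) (he f y hy) _).trans (hy.2.2.trans (he f y hy).symm)
  exact ⟨e, ⟨hP, hQ, hU⟩, fun e' h => isUnit₂_unique B h.2.2 hU h.2.1 hQ (h.1.trans hP.symm)⟩

/-- The unit of the second law over a section of `P`. -/
noncomputable def unit₂ (T : C) (p : P.obj.obj (op T)) : B.E.obj.obj (op T) :=
  (existsUnique_unit₂ B T p).choose

theorem unit₂_spec (T : C) (p : P.obj.obj (op T)) :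
    B.πP T (unit₂ B T p) = p ∧ B.πQ T (unit₂ B T p) = 0 ∧ IsUnit₂ B (unit₂ B T p) :=
  (existsUnique_unit₂ B T p).choose_spec.1

theorem unit₂_map {T T' : C} (f : T' ⟶ T) (p : P.obj.obj (op T)) :
    B.E.obj.map f.op (unit₂ B T p) = unit₂ B T' (P.obj.map f.op p) := by
  obtain ⟨a, b, c⟩ := unit₂_spec B T p
  exact (existsUnique_unit₂ B T' _).unique ⟨by rw [B.πP_map, a], by rw [B.πQ_map, b, map_zero], c.map B f⟩
    (unit₂_spec B T' _)

theorem unit₂_add {T : C} (p : P.obj.obj (op T)) (x : B.E.obj.obj (op T)) (h : B.πP T x = p) :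
    B.add₂ T (unit₂ B T p) x ((unit₂_spec B T p).1.trans h.symm) = x :=
  (unit₂_spec B T p).2.2.add_left B (unit₂_spec B T p).2.1 x _

theorem add₂_cancel {T : C} {x y y' : B.E.obj.obj (op T)} (h : B.πP T x = B.πP T y)
    (h' : B.πP T x = B.πP T y') (e : B.add₂ T x y h = B.add₂ T x y' h') : y = y' := by
  obtain ⟨g, rfl⟩ := exists_act B (x := y) (y := y') (h.symm.trans h') (by
    have := congrArg (B.πQ T) e
    rw [B.πQ_add₂, B.πQ_add₂] at this
    exact add_left_cancel this)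
  rw [add₂_act_right B g x y h] at e
  have hg : (0 : G.obj.obj (op T)) = g := act_inj B _ ((B.zero_act T _).trans e)
  rw [← hg, B.zero_act]

theorem existsUnique_neg₂ (T : C) (x : B.E.obj.obj (op T)) :
    ∃! y : B.E.obj.obj (op T), ∃ h : B.πP T x = B.πP T y, B.add₂ T x y h = unit₂ B T (B.πP T x) := by
  obtain ⟨R, hR, hy⟩ := B.locallySurjective T (B.πP T x) (-B.πQ T x)
  let Rl : ∀ ⦃T' : C⦄, (T' ⟶ T) → B.E.obj.obj (op T') → Prop := fun T' f y =>
    ∃ h : B.πP T' (B.E.obj.map f.op x) = B.πP T' y,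
      B.add₂ T' (B.E.obj.map f.op x) y h = unit₂ B T' (B.πP T' (B.E.obj.map f.op x))
  have hloc : ∀ ⦃T' : C⦄ (f : T' ⟶ T), R f → ∃ y, Rl f y := by
    intro T' f hf
    obtain ⟨y, hyP, hyQ⟩ := hy f hf
    have h : B.πP T' (B.E.obj.map f.op x) = B.πP T' y := by rw [B.πP_map, hyP]
    obtain ⟨g, hg⟩ := exists_act B (x := unit₂ B T' (B.πP T' (B.E.obj.map f.op x)))
      (y := B.add₂ T' (B.E.obj.map f.op x) y h)
      (by rw [B.πP_add₂, (unit₂_spec B T' _).1])
      (by rw [B.πQ_add₂, (unit₂_spec B T' _).2.1, B.πQ_map, hyQ, map_neg, add_neg_cancel])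
    refine ⟨B.act T' (-g) y, h.trans (B.πP_act _ _ _).symm, ?_⟩
    rw [add₂_act_right B (-g) _ y h, ← hg, ← B.add_act, neg_add_cancel, B.zero_act]
  obtain ⟨v, hv, -⟩ := glue B.E Rl
    (fun T' T'' f g y ⟨h, e⟩ => by
      have hx : B.E.obj.map g.op (B.E.obj.map f.op x) = B.E.obj.map (g ≫ f).op x := by
        rw [op_comp, Functor.map_comp, ConcreteCategory.comp_apply]
      refine ⟨(congrArg (B.πP T'') hx).symm.trans (by rw [B.πP_map, h, ← B.πP_map]), ?_⟩
      refine (add₂_congr B hx.symm rfl _).trans ((B.add₂_map g _ _ h).symm.trans ?_)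
      refine (congrArg (B.E.obj.map g.op) e).trans ((unit₂_map B g _).trans ?_)
      exact congrArg (unit₂ B T'') ((B.πP_map g _).symm.trans (congrArg (B.πP T'') hx)))
    (fun T' f y y' ⟨h, e⟩ ⟨h', e'⟩ => add₂_cancel B h h' (e.trans e'.symm))
    ⟨R, hR, hloc⟩
  have h : B.πP T x = B.πP T v := ext_ab P hR fun T' f hf => by
    obtain ⟨y, hy⟩ := hloc f hf
    rw [← B.πP_map, ← B.πP_map, hv f y hy]
    exact hy.choose
  have key : B.add₂ T x v h = unit₂ B T (B.πP T x) := ext_set B.E hR fun T' f hf => by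
    obtain ⟨y, hy⟩ := hloc f hf
    rw [B.add₂_map]
    exact (add₂_congr B rfl (hv f y hy) _).trans
      (hy.choose_spec.trans ((congrArg _ (B.πP_map f x)).trans (unit₂_map B f _).symm))
  exact ⟨v, ⟨h, key⟩, fun v' ⟨h', e'⟩ => add₂_cancel B h' h (e'.trans key.symm)⟩

/-- The fibre of a biextension over a section of `P`. -/
def Fib (T : C) (p : P.obj.obj (op T)) : Type (u + 1) := { x : B.E.obj.obj (op T) // B.πP T x = p }

variable {B}

instance (T : C) (p : P.obj.obj (op T)) : Add (Fib B T p) where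
  add x y := ⟨B.add₂ T x.1 y.1 (x.2.trans y.2.symm), (B.πP_add₂ _ _ _ _).trans x.2⟩

noncomputable instance (T : C) (p : P.obj.obj (op T)) : Zero (Fib B T p) where
  zero := ⟨unit₂ B T p, (unit₂_spec B T p).1⟩

noncomputable instance (T : C) (p : P.obj.obj (op T)) : Neg (Fib B T p) where
  neg x := ⟨(existsUnique_neg₂ B T x.1).choose,
    ((existsUnique_neg₂ B T x.1).choose_spec.1.choose).symm.trans x.2⟩

noncomputable instance (T : C) (p : P.obj.obj (op T)) : AddCommGroup (Fib B T p) where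
  add_assoc x y z := Subtype.ext (B.add₂_assoc T x.1 y.1 z.1 _ _)
  zero_add x := Subtype.ext (unit₂_add B p x.1 x.2)
  add_zero x := Subtype.ext ((B.add₂_comm T x.1 (unit₂ B T p) _).trans (unit₂_add B p x.1 x.2))
  add_comm x y := Subtype.ext (B.add₂_comm T x.1 y.1 _)
  nsmul := nsmulRec
  zsmul := zsmulRec
  neg_add_cancel x := Subtype.ext (by
    show B.add₂ T (existsUnique_neg₂ B T x.1).choose x.1 _ = unit₂ B T p
    rw [B.add₂_comm]
    exact ((existsUnique_neg₂ B T x.1).choose_spec.1.choose_spec).trans (congrArg _ x.2))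

theorem Fib.add_val {T : C} {p : P.obj.obj (op T)} (x y : Fib B T p) :
    (x + y).1 = B.add₂ T x.1 y.1 (x.2.trans y.2.symm) := rfl

theorem Fib.zero_val {T : C} (p : P.obj.obj (op T)) : (0 : Fib B T p).1 = unit₂ B T p := rfl

end Groth.Agent.BiextExt27
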