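import Groth.Agent.BiextExt27.Pairings
import Groth.Agent.SiteCmp16.Derived
import Mathlib.Algebra.Homology.DerivedCategory.Ext.ExactSequences

/-!
# Biextensions and extensions

If `Ext¹(P, 𝓗om(Q, G)) = 0` and `Hom(P, 𝓔xt¹(Q, G)) = 0`, every biextension of `(P, Q)` by `G` is trivial.
-/

set_option autoImplicit false
set_option backward.isDefEq.respectTransparency false
set_option backward.isDefEq.respectTransparency.types false

universe w u

open CategoryTheory CategoryTheory.Limits Opposite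

namespace Groth.Agent.BiextExt27

variable {C : Type (u + 1)} [Category.{u} C] {J : GrothendieckTopology C}
  [HasSheafify J AddCommGrpCat.{u + 1}] [J.WEqualsLocallyBijective AddCommGrpCat.{u + 1}]
  {P Q G : Sheaf J AddCommGrpCat.{u + 1}} {B : Biext J P Q G} (D : Datum B)

namespace Datum

/-- A point of `P` with a lift of its class. -/
def SplT (U : C) : Type (u + 1) :=
  { z : P.obj.obj (op U) × (HomSh.homSh J Q D.I).obj.obj (op U) // (πH D).hom.app (op U) z.2 = psi D U z.1 }

variable {D}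

theorem delta_zero_right (U : C) (p : P.obj.obj (op U)) : delta D U p 0 = delta D U 0 0 := by
  have h := delta_cocycle D U p 0 0
  rw [add_zero, add_zero] at h
  exact add_right_cancel h

noncomputable instance (U : C) : Add (D.SplT U) where
  add z z' := ⟨(z.1.1 + z'.1.1, z.1.2 + z'.1.2 + delta D U z.1.1 z'.1.1), by
    rw [map_add, map_add, z.2, z'.2, psi_add]⟩

noncomputable instance (U : C) : Zero (D.SplT U) where
  zero := ⟨(0, -delta D U 0 0), by
    have h := psi_add D U 0 0
    rw [add_zero] at h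
    rw [map_neg]
    have h' : psi D U 0 + (psi D U 0 + (πH D).hom.app (op U) (delta D U 0 0)) = psi D U 0 + 0 := by
      rw [← add_assoc, ← h, add_zero]
    exact (eq_neg_of_add_eq_zero_left (add_left_cancel h')).symm⟩

noncomputable instance (U : C) : Neg (D.SplT U) where
  neg z := ⟨(-z.1.1, -z.1.2 - delta D U (-z.1.1) z.1.1 - delta D U 0 0), by
    have h := psi_add D U (-z.1.1) z.1.1
    rw [neg_add_cancel] at h
    have h0 := psi_add D U 0 0
    rw [add_zero] at h0
    rw [map_sub, map_sub, map_neg, z.2]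
    have e : (πH D).hom.app (op U) (delta D U 0 0) = -psi D U 0 := by
      have h' : psi D U 0 + 0 = psi D U 0 + (psi D U 0 + (πH D).hom.app (op U) (delta D U 0 0)) := by
        rw [← add_assoc, ← h0, add_zero]
      exact eq_neg_of_add_eq_zero_right (add_left_cancel h').symm
    rw [e, h]
    abel⟩

noncomputable instance (U : C) : AddCommGroup (D.SplT U) where
  add_assoc z z' z'' := Subtype.ext (Prod.ext (add_assoc _ _ _) (by
    show z.1.2 + z'.1.2 + delta D U z.1.1 z'.1.1 + z''.1.2 + delta D U (z.1.1 + z'.1.1) z''.1.1 =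
      z.1.2 + (z'.1.2 + z''.1.2 + delta D U z'.1.1 z''.1.1) + delta D U z.1.1 (z'.1.1 + z''.1.1)
    have h := delta_cocycle D U z.1.1 z'.1.1 z''.1.1
    calc z.1.2 + z'.1.2 + delta D U z.1.1 z'.1.1 + z''.1.2 + delta D U (z.1.1 + z'.1.1) z''.1.1
        = z.1.2 + z'.1.2 + z''.1.2 + (delta D U z.1.1 z'.1.1 + delta D U (z.1.1 + z'.1.1) z''.1.1) := by abel
      _ = z.1.2 + z'.1.2 + z''.1.2 + (delta D U z'.1.1 z''.1.1 + delta D U z.1.1 (z'.1.1 + z''.1.1)) := by rw [h]
      _ = _ := by abel))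
  zero_add z := Subtype.ext (Prod.ext (zero_add _) (by
    show -delta D U 0 0 + z.1.2 + delta D U 0 z.1.1 = z.1.2
    rw [delta_comm D U 0 z.1.1, delta_zero_right U z.1.1]
    abel))
  add_zero z := Subtype.ext (Prod.ext (add_zero _) (by
    show z.1.2 + -delta D U 0 0 + delta D U z.1.1 0 = z.1.2
    rw [delta_zero_right U z.1.1]
    abel))
  add_comm z z' := Subtype.ext (Prod.ext (add_comm _ _) (by
    show z.1.2 + z'.1.2 + delta D U z.1.1 z'.1.1 = z'.1.2 + z.1.2 + delta D U z'.1.1 z.1.1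
    rw [delta_comm D U z'.1.1]
    abel))
  nsmul := nsmulRec
  zsmul := zsmulRec
  neg_add_cancel z := Subtype.ext (Prod.ext (neg_add_cancel _) (by
    show -z.1.2 - delta D U (-z.1.1) z.1.1 - delta D U 0 0 + z.1.2 + delta D U (-z.1.1) z.1.1 = -delta D U 0 0
    abel))

variable (D)

/-- Restriction of lifts. -/
noncomputable def resSpl {U V : C} (f : V ⟶ U) : D.SplT U →+ D.SplT V :=
  AddMonoidHom.mk' (fun z => ⟨(P.obj.map f.op z.1.1, (HomSh.homSh J Q D.I).obj.map f.op z.1.2), by
      have e := NatTrans.naturality_apply (πH D).hom f.op z.1.2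
      rw [e, z.2, psi_map]⟩)
    fun z z' => Subtype.ext (Prod.ext (map_add _ _ _) (by
      show (HomSh.homSh J Q D.I).obj.map f.op (z.1.2 + z'.1.2 + delta D U z.1.1 z'.1.1) =
        (HomSh.homSh J Q D.I).obj.map f.op z.1.2 + (HomSh.homSh J Q D.I).obj.map f.op z'.1.2 +
          delta D V (P.obj.map f.op z.1.1) (P.obj.map f.op z'.1.1)
      rw [map_add, map_add, delta_map]))

/-- The presheaf of lifts. -/
noncomputable def splPre : Cᵒᵖ ⥤ AddCommGrpCat.{u + 1} where
  obj U := AddCommGrpCat.of (D.SplT U.unop)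
  map f := AddCommGrpCat.ofHom (resSpl D f.unop)
  map_id U := AddCommGrpCat.hom_ext (AddMonoidHom.ext fun z => Subtype.ext (Prod.ext
    (res_id P z.1.1) (res_id (HomSh.homSh J Q D.I) z.1.2)))
  map_comp f g := AddCommGrpCat.hom_ext (AddMonoidHom.ext fun z => Subtype.ext (Prod.ext
    (res_comp P f.unop g.unop z.1.1) (res_comp (HomSh.homSh J Q D.I) f.unop g.unop z.1.2)))

theorem isSheaf_splPre : Presheaf.IsSheaf J (splPre D) := by
  apply Presheaf.isSheaf_of_isSheaf_comp J (splPre D) (forget AddCommGrpCat.{u + 1})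
  rw [isSheaf_iff_isSheaf_of_type]
  intro T R hR x hx
  have hP := (isSheaf_iff_isSheaf_of_type _ _).1 (Biext.uSh J P).2 R hR
  have hH := (isSheaf_iff_isSheaf_of_type _ _).1 (Biext.uSh J (HomSh.homSh J Q D.I)).2 R hR
  let xP : Presieve.FamilyOfElements (Biext.uSh J P).obj R.arrows := fun T' f hf =>
    ((x f hf : D.SplT T')).1.1
  let xH : Presieve.FamilyOfElements (Biext.uSh J (HomSh.homSh J Q D.I)).obj R.arrows := fun T' f hf =>
    ((x f hf : D.SplT T')).1.2
  have hxP : xP.Compatible := fun Y₁ Y₂ Z g₁ g₂ f₁ f₂ h₁ h₂ e =>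
    congrArg (fun z : D.SplT Z => z.1.1) (hx g₁ g₂ h₁ h₂ e)
  have hxH : xH.Compatible := fun Y₁ Y₂ Z g₁ g₂ f₁ f₂ h₁ h₂ e =>
    congrArg (fun z : D.SplT Z => z.1.2) (hx g₁ g₂ h₁ h₂ e)
  obtain ⟨p, hp, hpu⟩ := hP xP hxP
  obtain ⟨h, hh, hhu⟩ := hH xH hxH
  have hmem : (πH D).hom.app (op T) h = psi D T p := ext_ab (HomSh.homSh J Q D.K) hR fun T' f hf => by
    rw [← NatTrans.naturality_apply (πH D).hom f.op h, psi_map]
    have a : (HomSh.homSh J Q D.I).obj.map f.op h = (x f hf : D.SplT T').1.2 := hh f hf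
    have b : P.obj.map f.op p = (x f hf : D.SplT T').1.1 := hp f hf
    rw [a, b]
    exact (x f hf : D.SplT T').2
  refine ⟨(⟨(p, h), hmem⟩ : D.SplT T), fun T' f hf => Subtype.ext (Prod.ext (hp f hf) (hh f hf)), fun z hz => ?_⟩
  exact Subtype.ext (Prod.ext (hpu (z : D.SplT T).1.1 fun T' f hf => congrArg (fun w : D.SplT T' => w.1.1) (hz f hf))
    (hhu (z : D.SplT T).1.2 fun T' f hf => congrArg (fun w : D.SplT T' => w.1.2) (hz f hf)))

/-- The sheaf of lifts. -/
noncomputable def spl : Sheaf J AddCommGrpCat.{u + 1} := ⟨splPre D, isSheaf_splPre D⟩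

/-- The projection to `P`. -/
noncomputable def proj : spl D ⟶ P :=
  ⟨{ app := fun U => AddCommGrpCat.ofHom (AddMonoidHom.mk' (fun z : D.SplT U.unop => z.1.1) fun _ _ => rfl)
     naturality := fun U V f => rfl }⟩

/-- Composition with `i`. -/
noncomputable def iH : HomSh.homSh J Q G ⟶ HomSh.homSh J Q D.I := HomSh.homShMap J (𝟙 Q) D.i

theorem πH_iH (U : C) (g : (HomSh.homSh J Q G).obj.obj (op U)) :
    (πH D).hom.app (op U) ((iH D).hom.app (op U) g) = 0 :=
  hom_over_ext fun W a => π_i D W.left ((g : Q.over U ⟶ G.over U).hom.app (op W) a)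

theorem πH_neg_delta_zero (U : C) : (πH D).hom.app (op U) (-delta D U 0 0) = psi D U 0 :=
  (0 : D.SplT U).2

/-- The inclusion of the homomorphisms. -/
noncomputable def inH : HomSh.homSh J Q G ⟶ spl D :=
  ⟨{ app := fun U => AddCommGrpCat.ofHom (AddMonoidHom.mk'
       (fun g : (HomSh.homSh J Q G).obj.obj U =>
         (⟨(0, (iH D).hom.app U g + -delta D U.unop 0 0), by
           rw [map_add, πH_neg_delta_zero]
           exact (congrArg (· + _) (πH_iH D U.unop g)).trans (zero_add _)⟩ : D.SplT U.unop))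
       (fun g g' => Subtype.ext (Prod.ext (add_zero _).symm (by
         show (iH D).hom.app U (g + g') + -delta D U.unop 0 0 =
           ((iH D).hom.app U g + -delta D U.unop 0 0) + ((iH D).hom.app U g' + -delta D U.unop 0 0) +
             delta D U.unop 0 0
         rw [map_add]
         abel))))
     naturality := fun U V f => AddCommGrpCat.hom_ext (AddMonoidHom.ext fun g => Subtype.ext (Prod.ext
       (map_zero (P.obj.map f).hom).symm (by
         show (iH D).hom.app V ((HomSh.homSh J Q G).obj.map f g) + -delta D V.unop 0 0 =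
           (HomSh.homSh J Q D.I).obj.map f ((iH D).hom.app U g + -delta D U.unop 0 0)
         rw [map_add, map_neg]
         have e1 := NatTrans.naturality_apply (iH D).hom f g
         have e2 : (HomSh.homSh J Q D.I).obj.map f (delta D U.unop 0 0) = delta D V.unop 0 0 :=
           (delta_map D f.unop 0 0).trans (by rw [map_zero])
         rw [e1, e2]))) }⟩

theorem inH_proj : inH D ≫ proj D = 0 :=
  Sheaf.hom_ext (NatTrans.ext (funext fun U => AddCommGrpCat.hom_ext (AddMonoidHom.ext fun _ => rfl)))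

variable [∀ U : C, HasSheafify (J.over U) AddCommGrpCat.{u + 1}]

theorem exists_iH (U : C) (h : (HomSh.homSh J Q D.I).obj.obj (op U)) (hh : (πH D).hom.app (op U) h = 0) :
    ∃ g, (iH D).hom.app (op U) g = h := by
  have hT := D.exact
  haveI := (CAlgH3.DualSix.shortExact_over hT U).mono_f
  have h' : (J.overPullback AddCommGrpCat.{u + 1} U).map (𝟙 Q) ≫ h ≫
      (J.overPullback AddCommGrpCat.{u + 1} U).map D.π = 0 := hh
  rw [CategoryTheory.Functor.map_id, Category.id_comp] at h'
  refine ⟨(CAlgH3.DualSix.shortExact_over hT U).exact.lift h h', ?_⟩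
  show (J.overPullback AddCommGrpCat.{u + 1} U).map (𝟙 Q) ≫ _ ≫ (J.overPullback AddCommGrpCat.{u + 1} U).map D.i = h
  rw [CategoryTheory.Functor.map_id, Category.id_comp]
  exact (CAlgH3.DualSix.shortExact_over hT U).exact.lift_f _ _

theorem iH_inj (U : C) : Function.Injective ((iH D).hom.app (op U)) := fun g g' h =>
  hom_over_ext fun W a => i_inj D W.left
    (ConcreteCategory.congr_hom (congrArg (fun k : Q.over U ⟶ D.I.over U => k.hom.app (op W)) h) a)

/-- Local lifts of all classes give a short exact sequence. -/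
theorem shortExact_spl (hloc : ∀ (U : C) (p : P.obj.obj (op U)), ∃ R ∈ J U, ∀ ⦃V : C⦄ (f : V ⟶ U), R f →
      ∃ h : (HomSh.homSh J Q D.I).obj.obj (op V), (πH D).hom.app (op V) h = psi D V (P.obj.map f.op p)) :
    (ShortComplex.mk (inH D) (proj D) (inH_proj D)).ShortExact := by
  refine CAlgH3.DualSix.shortExact_of_sections _ (fun U g g' h => ?_) (fun U z h => ?_) ⟨fun {U} p => ?_⟩
  · exact iH_inj D U (add_right_cancel (congrArg (fun z : D.SplT U => z.1.2) h))
  · change D.SplT U at z
    have h0 : z.1.1 = 0 := h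
    have h1 : (πH D).hom.app (op U) (z.1.2 + delta D U 0 0) = 0 := by
      rw [map_add, z.2, h0, ← πH_neg_delta_zero, map_neg, neg_add_cancel]
    obtain ⟨g, hg⟩ := exists_iH D U _ h1
    refine ⟨g, Subtype.ext (Prod.ext h0.symm ?_)⟩
    show (iH D).hom.app (op U) g + -delta D U 0 0 = z.1.2
    rw [hg, add_neg_cancel_right]
  · obtain ⟨R, hR, hl⟩ := hloc U p
    refine J.superset_covering ?_ hR
    intro V f hf
    obtain ⟨h, hh⟩ := hl f hf
    exact ⟨(⟨(P.obj.map f.op p, h), hh⟩ : D.SplT V), rfl⟩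

omit [∀ U : C, HasSheafify (J.over U) AddCommGrpCat.{u + 1}] in
/-- A global system of lifts gives a splitting. -/
theorem isTrivial_of_section (s : P ⟶ spl D) (hs : s ≫ proj D = 𝟙 P) : Biext.IsTrivial J B := by
  let z : ∀ T : C, P.obj.obj (op T) → D.SplT T := fun T p => s.hom.app (op T) p
  let hI : ∀ T : C, P.obj.obj (op T) → Q.obj.obj (op T) → D.I.obj.obj (op T) := fun T p q =>
    HomSh.ev J ((z T p).1.2 : Q.over T ⟶ D.I.over T) q
  have hz : ∀ (T : C) p, (z T p).1.1 = p := fun T p =>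
    ConcreteCategory.congr_hom (congrArg (fun k : P ⟶ P => k.hom.app (op T)) hs) p
  have hznat : ∀ {T T' : C} (f : T' ⟶ T) p, z T' (P.obj.map f.op p) = resSpl D f (z T p) := fun {T T'} f p =>
    NatTrans.naturality_apply s.hom f.op p
  have hInat : ∀ {T T' : C} (f : T' ⟶ T) p q,
      hI T' (P.obj.map f.op p) (Q.obj.map f.op q) = D.I.obj.map f.op (hI T p q) := fun {T T'} f p q => by
    show HomSh.ev J ((z T' (P.obj.map f.op p)).1.2 : Q.over T' ⟶ D.I.over T') (Q.obj.map f.op q) = _
    rw [hznat]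
    exact CAlgH3.HomShAcyclic.ev_res f _ q
  have hIπ : ∀ (T : C) p q, D.π.hom.app (op T) (hI T p q) = wv D T p q := fun T p q => by
    have e := congrArg (fun k : Q.over T ⟶ D.K.over T => k.hom.app (op (Over.mk (𝟙 T)))) (z T p).2
    have e' := ConcreteCategory.congr_hom e q
    rw [hz] at e'
    refine e'.trans ?_
    show wv D T (P.obj.map (𝟙 T).op p) q = _
    rw [res_id]
  have hsol : ∀ (T : C) (p : P.obj.obj (op T)) (q : Q.obj.obj (op T)), ∃! x : B.E.obj.obj (op T),
      B.πP T x = p ∧ B.πQ T x = q ∧ D.R.r T x = hI T p q := by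
    intro T p q
    obtain ⟨R, hR, hl⟩ := B.locallySurjective T p q
    let Rl : ∀ ⦃T' : C⦄, (T' ⟶ T) → B.E.obj.obj (op T') → Prop := fun T' f x =>
      B.πP T' x = P.obj.map f.op p ∧ B.πQ T' x = Q.obj.map f.op q ∧
        D.R.r T' x = D.I.obj.map f.op (hI T p q)
    have uq : ∀ {T' : C} (x x' : B.E.obj.obj (op T')), B.πP T' x = B.πP T' x' → B.πQ T' x = B.πQ T' x' →
        D.R.r T' x = D.R.r T' x' → x = x' := fun {T'} x x' hP hQ hr => by
      obtain ⟨g, rfl⟩ := exists_act B hP hQ
      rw [D.R.r_act] at hr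
      have : g = 0 := i_inj D T' (by rw [map_zero]; simpa using hr)
      rw [this, B.zero_act]
    have hloc : ∀ ⦃T' : C⦄ (f : T' ⟶ T), R f → ∃ x, Rl f x := by
      intro T' f hf
      obtain ⟨x, hxP, hxQ⟩ := hl f hf
      obtain ⟨g, hg⟩ := lift_i D T' (D.R.r T' x - D.I.obj.map f.op (hI T p q)) (by
        rw [map_sub, NatTrans.naturality_apply D.π.hom f.op (hI T p q), hIπ, wv_map_lift D f p q x hxP hxQ,
          sub_self])
      refine ⟨B.act T' (-g) x, (B.πP_act _ _ _).trans hxP, (B.πQ_act _ _ _).trans hxQ, ?_⟩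
      rw [D.R.r_act, map_neg, hg]
      abel
    obtain ⟨v, hv, -⟩ := glue B.E Rl
      (fun T' T'' f g x ⟨a, b, c⟩ => ⟨by rw [B.πP_map, a, res_comp], by rw [B.πQ_map, b, res_comp],
        by rw [D.R.r_map, c, res_comp]⟩)
      (fun T' f x x' ⟨a, b, c⟩ ⟨a', b', c'⟩ => uq x x' (a.trans a'.symm) (b.trans b'.symm) (c.trans c'.symm))
      ⟨R, hR, hloc⟩
    have hP : B.πP T v = p := ext_ab P hR fun T' f hf => by
      obtain ⟨y, hy⟩ := hloc f hf
      rw [← B.πP_map, hv f y hy, hy.1]
    have hQ : B.πQ T v = q := ext_ab Q hR fun T' f hf => by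
      obtain ⟨y, hy⟩ := hloc f hf
      rw [← B.πQ_map, hv f y hy, hy.2.1]
    have hr : D.R.r T v = hI T p q := ext_ab D.I hR fun T' f hf => by
      obtain ⟨y, hy⟩ := hloc f hf
      rw [← D.R.r_map, hv f y hy, hy.2.2]
    exact ⟨v, ⟨hP, hQ, hr⟩, fun x ⟨a, b, c⟩ => uq x v (a.trans hP.symm) (b.trans hQ.symm) (c.trans hr.symm)⟩
  choose σ hσ hu using hsol
  refine ⟨⟨σ, fun T p q => (hσ T p q).1, fun T p q => (hσ T p q).2.1, fun {T T'} f p q => ?_,
    fun T p p' q => ?_, fun T p q q' => ?_⟩⟩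
  · obtain ⟨a, b, c⟩ := hσ T p q
    exact hu T' _ _ _ ⟨by rw [B.πP_map, a], by rw [B.πQ_map, b], by rw [D.R.r_map, c, hInat]⟩
  · obtain ⟨a, b, c⟩ := hσ T p q
    obtain ⟨a', b', c'⟩ := hσ T p' q
    refine (hu T _ _ _ ⟨by rw [B.πP_add₁, a, a'], (B.πQ_add₁ _ _ _ _).trans b, ?_⟩).symm
    have e : z T (p + p') = z T p + z T p' := map_add (s.hom.app (op T)).hom p p'
    have e2 : hI T (p + p') q = hI T p q + hI T p' q + dv D T p p' q := by
      show HomSh.ev J ((z T (p + p')).1.2 : Q.over T ⟶ D.I.over T) q = _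
      rw [e]
      show hI T p q + hI T p' q + dv D T (P.obj.map (𝟙 T).op (z T p).1.1) (P.obj.map (𝟙 T).op (z T p').1.1) q = _
      rw [hz, hz, res_id, res_id]
    rw [e2, dv_eq D p p' q (σ T p q) (σ T p' q) (b.trans b'.symm) a a' b]
    simp only [defect]
    have k : ∀ (r r₁ r₂ u v : D.I.obj.obj (op T)), r₁ = u → r₂ = v → r = u + v + (r - r₁ - r₂) := by
      rintro r r₁ r₂ u v rfl rfl
      abel
    exact k _ _ _ _ _ c c'
  · obtain ⟨a, b, c⟩ := hσ T p q
    obtain ⟨a', b', c'⟩ := hσ T p q'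
    refine (hu T _ _ _ ⟨(B.πP_add₂ _ _ _ _).trans a, by rw [B.πQ_add₂, b, b'], ?_⟩).symm
    rw [D.R.r_add₂, c, c']
    exact (map_add (HomSh.ev J ((z T p).1.2 : Q.over T ⟶ D.I.over T)) q q').symm

end Datum

/-- Sections killed by a map of an exact sequence come locally from the previous term. -/
theorem imageSieve_mem_of_exact (S : ShortComplex (Sheaf J AddCommGrpCat.{u + 1})) (hS : S.Exact) {U : C}
    (s : S.X₂.obj.obj (op U)) (h : S.g.hom.app (op U) s = 0) : Presheaf.imageSieve S.f.hom s ∈ J U := by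
  haveI : Mono S.iCycles := inferInstance
  let Φ : Sheaf J AddCommGrpCat.{u + 1} ⥤ AddCommGrpCat.{u + 1} :=
    sheafToPresheaf _ AddCommGrpCat.{u + 1} ⋙ (evaluation _ _).obj (op U)
  haveI : Φ.Additive := { map_add := rfl }
  haveI : PreservesFiniteLimits Φ := comp_preservesFiniteLimits _ _
  let T := ShortComplex.mk S.iCycles S.g S.iCycles_g
  have hT : T.Exact := ShortComplex.exact_of_f_is_kernel _ S.cyclesIsKernel
  obtain ⟨t, ht⟩ := (ShortComplex.ab_exact_iff _).1
    (hT.map_of_mono_of_preservesKernel Φ (inferInstanceAs (Mono S.iCycles)) inferInstance) s h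
  haveI : Epi S.toCycles := (ShortComplex.exact_iff_epi_toCycles _).1 hS
  haveI : Sheaf.IsLocallySurjective S.toCycles :=
    (Sheaf.isLocallySurjective_iff_epi' (φ := S.toCycles)).2 inferInstance
  refine J.superset_covering ?_ (Presheaf.imageSieve_mem J S.toCycles.hom t)
  rintro V f ⟨x, hx⟩
  refine ⟨x, ?_⟩
  have e : S.iCycles.hom.app (op V) (S.toCycles.hom.app (op V) x) = S.f.hom.app (op V) x :=
    ConcreteCategory.congr_hom (congrArg (fun k : S.X₁ ⟶ S.X₂ => k.hom.app (op V)) S.toCycles_i) x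
  refine e.symm.trans ((congrArg _ hx).trans ((NatTrans.naturality_apply S.iCycles.hom f.op t).trans ?_))
  exact congrArg _ ht

section Gen

universe v v' z z'

variable {E : Type z} [Category.{v} E] [Abelian E] {E' : Type z'} [Category.{v'} E'] [Abelian E']
  [EnoughInjectives E] (F : E ⥤ E') [F.Additive] [PreservesFiniteLimits F]

/-- The connecting map of an embedding into an injective object. -/
theorem exists_connecting {M I K : E} (i : M ⟶ I) (π : I ⟶ K) (w : i ≫ π = 0)
    (hT : (ShortComplex.mk i π w).ShortExact) [hI : Injective I] {X : E'} (eX : (F.rightDerived 1).obj M ≅ X) :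
    ∃ (c : F.obj K ⟶ X) (hc : F.map π ≫ c = 0), (ShortComplex.mk (F.map π) c hc).Exact := by
  haveI : Injective (ShortComplex.mk i π w).X₂ := hI
  obtain ⟨e⟩ := SiteCmp16.nonempty_rightDerived_one_iso (F := F) hT
  let t : cokernel (F.map π) ≅ X := e.symm ≪≫ eX
  have hc : F.map π ≫ cokernel.π (F.map π) ≫ t.hom = 0 := by
    rw [← Category.assoc, cokernel.condition, zero_comp]
  refine ⟨cokernel.π (F.map π) ≫ t.hom, hc, ?_⟩
  exact ShortComplex.exact_of_iso
    (S₁ := ShortComplex.mk (F.map π) (cokernel.π (F.map π)) (cokernel.condition _))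
    (S₂ := ShortComplex.mk (F.map π) (cokernel.π (F.map π) ≫ t.hom) hc)
    (ShortComplex.isoMk (Iso.refl _) (Iso.refl _) t (by simp) (by simp))
    (ShortComplex.exact_cokernel (F.map π))

end Gen

/-- **Vanishing criterion for biextensions.** -/
theorem isTrivial_of_ext_vanishing [∀ U : C, HasSheafify (J.over U) AddCommGrpCat.{u + 1}]
    [EnoughInjectives (Sheaf J AddCommGrpCat.{u + 1})] [HasExt.{w} (Sheaf J AddCommGrpCat.{u + 1})]
    (h₁ : ∀ e : Abelian.Ext.{w} P (HomSh.homSh J Q G) 1, e = 0)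
    (h₂ : ∀ φ : P ⟶ (HomSh.extSh J Q 1).obj G, φ = 0) (B : Biext J P Q G) : Biext.IsTrivial J B := by
  obtain ⟨R⟩ := nonempty_retr B (Injective.ι G)
  let D : Datum B :=
    { I := Injective.under G, K := cokernel (Injective.ι G), i := Injective.ι G, π := cokernel.π _,
      w := cokernel.condition _,
      exact := { exact := ShortComplex.exact_cokernel _
                 mono_f := inferInstanceAs (Mono (Injective.ι G))
                 epi_g := inferInstanceAs (Epi (cokernel.π (Injective.ι G))) }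
      R := R }
  haveI : Injective D.I := inferInstanceAs (Injective (Injective.under G))
  haveI := CAlgH3.DualSix.preservesFiniteLimits_homShFunctor (J := J) Q
  obtain ⟨c, hc', hker'⟩ := exists_connecting (HomSh.homShFunctor J Q) D.i D.π D.w D.exact
    ((eqToIso (HomSh.extSh_def J Q 1)).app G).symm
  have hc : (Datum.πH D) ≫ c = 0 := hc'
  have hker : (ShortComplex.mk (Datum.πH D) c hc).Exact := hker'
  let φ : P ⟶ (HomSh.extSh J Q 1).obj G :=
    ⟨{ app := fun U => AddCommGrpCat.ofHom (AddMonoidHom.mk' (fun p => c.hom.app U (Datum.psi D U.unop p))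
         fun p p' => by
           rw [Datum.psi_add, map_add, map_add]
           have h0 : c.hom.app U ((Datum.πH D).hom.app U (Datum.delta D U.unop p p')) = 0 :=
             ConcreteCategory.congr_hom (congrArg
               (fun k : HomSh.homSh J Q D.I ⟶ (HomSh.extSh J Q 1).obj G => k.hom.app U) hc) _
           exact (congrArg _ h0).trans (add_zero _))
       naturality := fun U V f => AddCommGrpCat.hom_ext (AddMonoidHom.ext fun p => by
         show c.hom.app V (Datum.psi D V.unop (P.obj.map f p)) =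
           ((HomSh.extSh J Q 1).obj G).obj.map f (c.hom.app U (Datum.psi D U.unop p))
         rw [← NatTrans.naturality_apply c.hom f]
         exact congrArg _ (Datum.psi_map D f.unop p).symm) }⟩
  have hφ := h₂ φ
  have hS := Datum.shortExact_spl D (fun U p => by
    have h0 : c.hom.app (op U) (Datum.psi D U p) = 0 :=
      ConcreteCategory.congr_hom (congrArg (fun k : P ⟶ (HomSh.extSh J Q 1).obj G => k.hom.app (op U)) hφ) p
    refine ⟨_, imageSieve_mem_of_exact _ hker (Datum.psi D U p) h0, ?_⟩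
    rintro V f ⟨h, hh⟩
    exact ⟨h, hh.trans (Datum.psi_map D f p)⟩)
  obtain ⟨x, hx⟩ := Abelian.Ext.covariant_sequence_exact₃ P hS (Abelian.Ext.mk₀ (𝟙 P)) (by norm_num)
    (h₁ _)
  obtain ⟨s, rfl⟩ := (Abelian.Ext.mk₀_bijective P D.spl).2 x
  rw [Abelian.Ext.mk₀_comp_mk₀] at hx
  exact Datum.isTrivial_of_section D s ((Abelian.Ext.mk₀_bijective P P).1 hx)

end Groth.Agent.BiextExt27
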