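import Groth.Agent.BiextExt27.Retr
import Groth.Agent.CAlgH3.DualSix
import Groth.Agent.CAlgH3.HomShAcyclic
import Groth.Prelude.Def_CGrpSh2

/-!
# The pairings attached to a retraction of a biextension

For an exact sequence `0 → G → I → K → 0` and a retraction `r : E → I` the class `π ∘ r` only depends on the
base point, giving `ψ(p) : Q|_U → K|_U`; the defect of additivity of `r` for the first law gives `δ(p, p')`.
-/

set_option autoImplicit false
set_option backward.isDefEq.respectTransparency false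
set_option backward.isDefEq.respectTransparency.types false

universe u

open CategoryTheory CategoryTheory.Limits Opposite

namespace Groth.Agent.BiextExt27

variable {C : Type (u + 1)} [Category.{u} C] {J : GrothendieckTopology C}
  {P Q G : Sheaf J AddCommGrpCat.{u + 1}}

/-- An embedding of `G` with its cokernel and a retraction of the biextension. -/
structure Datum [HasSheafify J AddCommGrpCat.{u + 1}] (B : Biext J P Q G) where
  /-- the ambient sheaf -/
  I : Sheaf J AddCommGrpCat.{u + 1}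
  /-- the cokernel -/
  K : Sheaf J AddCommGrpCat.{u + 1}
  /-- the embedding -/
  i : G ⟶ I
  /-- the projection -/
  π : I ⟶ K
  w : i ≫ π = 0
  exact : (ShortComplex.mk i π w).ShortExact
  /-- the retraction -/
  R : Retr B i

/-- A homomorphism between restrictions from a natural family of homomorphisms. -/
noncomputable def mkHom {M : Sheaf J AddCommGrpCat.{u + 1}} {U : C}
    (v : ∀ W : Over U, Q.obj.obj (op W.left) → M.obj.obj (op W.left))
    (hadd : ∀ (W : Over U) (a b : Q.obj.obj (op W.left)), v W (a + b) = v W a + v W b)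
    (hnat : ∀ (W W' : Over U) (m : W' ⟶ W) (a : Q.obj.obj (op W.left)),
      v W' (Q.obj.map m.left.op a) = M.obj.map m.left.op (v W a)) : Q.over U ⟶ M.over U :=
  ⟨{ app := fun W => AddCommGrpCat.ofHom (AddMonoidHom.mk' (v W.unop) (hadd W.unop))
     naturality := fun W W' m => AddCommGrpCat.hom_ext (AddMonoidHom.ext fun a => hnat W.unop W'.unop m.unop a) }⟩

theorem hom_over_ext {M : Sheaf J AddCommGrpCat.{u + 1}} {U : C} {φ ψ : Q.over U ⟶ M.over U}
    (h : ∀ (W : Over U) (a : Q.obj.obj (op W.left)), φ.hom.app (op W) a = ψ.hom.app (op W) a) : φ = ψ :=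
  Sheaf.hom_ext (NatTrans.ext (funext fun W => AddCommGrpCat.hom_ext (AddMonoidHom.ext fun a => h W.unop a)))

variable [HasSheafify J AddCommGrpCat.{u + 1}] [J.WEqualsLocallyBijective AddCommGrpCat.{u + 1}]
  {B : Biext J P Q G} (D : Datum B)

namespace Datum

theorem i_inj (T : C) : Function.Injective (D.i.hom.app (op T)) :=
  haveI : Mono D.i := D.exact.mono_f
  CAlgH3.HomShAcyclic.map_injective_apply D.i T

theorem π_i (T : C) (g : G.obj.obj (op T)) : D.π.hom.app (op T) (D.i.hom.app (op T) g) = 0 :=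
  ConcreteCategory.congr_hom (congrArg (fun k : G ⟶ D.K => k.hom.app (op T)) D.w) g

theorem lift_i (T : C) (z : D.I.obj.obj (op T)) (h : D.π.hom.app (op T) z = 0) :
    ∃ g, D.i.hom.app (op T) g = z :=
  CAlgH3.HomShAcyclic.exact_apply D.exact T z h

theorem π_r_congr {T : C} (x y : B.E.obj.obj (op T)) (hP : B.πP T x = B.πP T y) (hQ : B.πQ T x = B.πQ T y) :
    D.π.hom.app (op T) (D.R.r T x) = D.π.hom.app (op T) (D.R.r T y) := by
  obtain ⟨g, rfl⟩ := exists_act B hP hQ
  rw [D.R.r_act, map_add, π_i, zero_add]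

theorem existsUnique_wv (T : C) (p : P.obj.obj (op T)) (q : Q.obj.obj (op T)) :
    ∃! v : D.K.obj.obj (op T), ∀ ⦃T' : C⦄ (f : T' ⟶ T) (y : D.K.obj.obj (op T')),
      (∃ x : B.E.obj.obj (op T'), B.πP T' x = P.obj.map f.op p ∧ B.πQ T' x = Q.obj.map f.op q ∧
        y = D.π.hom.app (op T') (D.R.r T' x)) → D.K.obj.map f.op v = y := by
  refine glue' D.K _ ?_ ?_ ?_
  · rintro T' T'' f g y ⟨x, hP, hQ, rfl⟩
    refine ⟨B.E.obj.map g.op x, by rw [B.πP_map, hP, res_comp], by rw [B.πQ_map, hQ, res_comp], ?_⟩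
    rw [D.R.r_map]
    exact (NatTrans.naturality_apply D.π.hom g.op _).symm
  · rintro T' f y y' ⟨x, hP, hQ, rfl⟩ ⟨x', hP', hQ', rfl⟩
    exact π_r_congr D x x' (hP.trans hP'.symm) (hQ.trans hQ'.symm)
  · obtain ⟨R, hR, hx⟩ := B.locallySurjective T p q
    exact ⟨R, hR, fun T' f hf => ⟨_, (hx f hf).choose, (hx f hf).choose_spec.1, (hx f hf).choose_spec.2, rfl⟩⟩

/-- The class of `π ∘ r` above a point. -/
noncomputable def wv (T : C) (p : P.obj.obj (op T)) (q : Q.obj.obj (op T)) : D.K.obj.obj (op T) :=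
  (existsUnique_wv D T p q).choose

theorem wv_map_lift {T T' : C} (f : T' ⟶ T) (p : P.obj.obj (op T)) (q : Q.obj.obj (op T))
    (x : B.E.obj.obj (op T')) (hP : B.πP T' x = P.obj.map f.op p) (hQ : B.πQ T' x = Q.obj.map f.op q) :
    D.K.obj.map f.op (wv D T p q) = D.π.hom.app (op T') (D.R.r T' x) :=
  (existsUnique_wv D T p q).choose_spec.1 f _ ⟨x, hP, hQ, rfl⟩

theorem wv_eq {T : C} (p : P.obj.obj (op T)) (q : Q.obj.obj (op T)) (x : B.E.obj.obj (op T))
    (hP : B.πP T x = p) (hQ : B.πQ T x = q) : wv D T p q = D.π.hom.app (op T) (D.R.r T x) := by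
  have h := wv_map_lift D (𝟙 T) p q x (by rw [res_id, hP]) (by rw [res_id, hQ])
  rwa [res_id] at h

theorem wv_map {T T' : C} (f : T' ⟶ T) (p : P.obj.obj (op T)) (q : Q.obj.obj (op T)) :
    D.K.obj.map f.op (wv D T p q) = wv D T' (P.obj.map f.op p) (Q.obj.map f.op q) := by
  obtain ⟨R, hR, hx⟩ := B.locallySurjective T' (P.obj.map f.op p) (Q.obj.map f.op q)
  refine ext_ab D.K hR fun T'' g hg => ?_
  obtain ⟨x, hP, hQ⟩ := hx g hg
  rw [← res_comp, wv_map_lift D (g ≫ f) p q x (by rw [hP, res_comp]) (by rw [hQ, res_comp]),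
    wv_map_lift D g _ _ x hP hQ]

theorem wv_add_right (T : C) (p : P.obj.obj (op T)) (q q' : Q.obj.obj (op T)) :
    wv D T p (q + q') = wv D T p q + wv D T p q' := by
  obtain ⟨R, hR, hl⟩ := lifts₂ B T p p q q'
  refine ext_ab D.K hR fun T' f hf => ?_
  obtain ⟨x, z, ⟨hxP, hxQ⟩, ⟨hzP, hzQ⟩⟩ := hl f hf
  have h : B.πP T' x = B.πP T' z := hxP.trans hzP.symm
  rw [map_add, wv_map_lift D f p q x hxP hxQ, wv_map_lift D f p q' z hzP hzQ,
    wv_map_lift D f p (q + q') (B.add₂ T' x z h) ((B.πP_add₂ _ _ _ _).trans hxP)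
      (by rw [B.πQ_add₂, hxQ, hzQ, map_add]), D.R.r_add₂, map_add]

/-- The defect of additivity at two lifts. -/
noncomputable def defect (T : C) (x z : B.E.obj.obj (op T)) (h : B.πQ T x = B.πQ T z) : D.I.obj.obj (op T) :=
  D.R.r T (B.add₁ T x z h) - D.R.r T x - D.R.r T z

theorem defect_congr {T : C} (x z x' z' : B.E.obj.obj (op T)) (h : B.πQ T x = B.πQ T z)
    (h' : B.πQ T x' = B.πQ T z') (hP : B.πP T x = B.πP T x') (hP' : B.πP T z = B.πP T z')
    (hQ : B.πQ T x = B.πQ T x') : defect D T x z h = defect D T x' z' h' := by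
  obtain ⟨a, rfl⟩ := exists_act B hP hQ
  obtain ⟨b, rfl⟩ := exists_act B hP' (h.symm.trans (hQ.trans h'))
  simp only [defect]
  rw [B.add₁_act T a x (B.act T b z) (h.trans (B.πQ_act T b z).symm), add₁_act_right B b x z h,
    D.R.r_act, D.R.r_act, D.R.r_act, D.R.r_act]
  abel

theorem defect_map {T T' : C} (f : T' ⟶ T) (x z : B.E.obj.obj (op T)) (h : B.πQ T x = B.πQ T z) :
    D.I.obj.map f.op (defect D T x z h) =
      defect D T' (B.E.obj.map f.op x) (B.E.obj.map f.op z) (by rw [B.πQ_map, B.πQ_map, h]) := by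
  simp only [defect, map_sub, ← D.R.r_map, B.add₁_map]

theorem existsUnique_dv (T : C) (p p' : P.obj.obj (op T)) (q : Q.obj.obj (op T)) :
    ∃! v : D.I.obj.obj (op T), ∀ ⦃T' : C⦄ (f : T' ⟶ T) (y : D.I.obj.obj (op T')),
      (∃ (x z : B.E.obj.obj (op T')) (h : B.πQ T' x = B.πQ T' z), B.πP T' x = P.obj.map f.op p ∧
        B.πP T' z = P.obj.map f.op p' ∧ B.πQ T' x = Q.obj.map f.op q ∧
        y = defect D T' x z h) → D.I.obj.map f.op v = y := by
  refine glue' D.I _ ?_ ?_ ?_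
  · rintro T' T'' f g y ⟨x, z, h, hP, hP', hQ, rfl⟩
    exact ⟨B.E.obj.map g.op x, B.E.obj.map g.op z, by rw [B.πQ_map, B.πQ_map, h],
      by rw [B.πP_map, hP, res_comp], by rw [B.πP_map, hP', res_comp], by rw [B.πQ_map, hQ, res_comp],
      defect_map D g x z h⟩
  · rintro T' f y y' ⟨x, z, h, hP, hP', hQ, rfl⟩ ⟨x', z', h', hxP, hzP, hxQ, rfl⟩
    exact defect_congr D x z x' z' h h' (hP.trans hxP.symm) (hP'.trans hzP.symm) (hQ.trans hxQ.symm)
  · obtain ⟨R, hR, hl⟩ := lifts₂ B T p p' q q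
    refine ⟨R, hR, fun T' f hf => ?_⟩
    obtain ⟨x, z, ⟨hxP, hxQ⟩, ⟨hzP, hzQ⟩⟩ := hl f hf
    exact ⟨_, x, z, hxQ.trans hzQ.symm, hxP, hzP, hxQ, rfl⟩

/-- The defect of additivity above two points. -/
noncomputable def dv (T : C) (p p' : P.obj.obj (op T)) (q : Q.obj.obj (op T)) : D.I.obj.obj (op T) :=
  (existsUnique_dv D T p p' q).choose

theorem dv_map_lift {T T' : C} (f : T' ⟶ T) (p p' : P.obj.obj (op T)) (q : Q.obj.obj (op T))
    (x z : B.E.obj.obj (op T')) (h : B.πQ T' x = B.πQ T' z) (hP : B.πP T' x = P.obj.map f.op p)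
    (hP' : B.πP T' z = P.obj.map f.op p') (hQ : B.πQ T' x = Q.obj.map f.op q) :
    D.I.obj.map f.op (dv D T p p' q) = defect D T' x z h :=
  (existsUnique_dv D T p p' q).choose_spec.1 f _ ⟨x, z, h, hP, hP', hQ, rfl⟩

theorem dv_eq {T : C} (p p' : P.obj.obj (op T)) (q : Q.obj.obj (op T)) (x z : B.E.obj.obj (op T))
    (h : B.πQ T x = B.πQ T z) (hP : B.πP T x = p) (hP' : B.πP T z = p') (hQ : B.πQ T x = q) :
    dv D T p p' q = defect D T x z h := by
  have e := dv_map_lift D (𝟙 T) p p' q x z h (by rw [res_id, hP]) (by rw [res_id, hP']) (by rw [res_id, hQ])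
  rwa [res_id] at e

theorem dv_map {T T' : C} (f : T' ⟶ T) (p p' : P.obj.obj (op T)) (q : Q.obj.obj (op T)) :
    D.I.obj.map f.op (dv D T p p' q) =
      dv D T' (P.obj.map f.op p) (P.obj.map f.op p') (Q.obj.map f.op q) := by
  obtain ⟨R, hR, hl⟩ := lifts₂ B T' (P.obj.map f.op p) (P.obj.map f.op p') (Q.obj.map f.op q) (Q.obj.map f.op q)
  refine ext_ab D.I hR fun T'' g hg => ?_
  obtain ⟨x, z, ⟨hxP, hxQ⟩, ⟨hzP, hzQ⟩⟩ := hl g hg
  have h := hxQ.trans hzQ.symm
  rw [← res_comp, dv_map_lift D (g ≫ f) p p' q x z h (by rw [hxP, res_comp]) (by rw [hzP, res_comp])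
    (by rw [hxQ, res_comp]), dv_map_lift D g _ _ _ x z h hxP hzP hxQ]

theorem dv_comm (T : C) (p p' : P.obj.obj (op T)) (q : Q.obj.obj (op T)) : dv D T p p' q = dv D T p' p q := by
  obtain ⟨R, hR, hl⟩ := lifts₂ B T p p' q q
  refine ext_ab D.I hR fun T' f hf => ?_
  obtain ⟨x, z, ⟨hxP, hxQ⟩, ⟨hzP, hzQ⟩⟩ := hl f hf
  have h := hxQ.trans hzQ.symm
  rw [dv_map_lift D f p p' q x z h hxP hzP hxQ, dv_map_lift D f p' p q z x h.symm hzP hxP hzQ]
  simp only [defect]
  rw [B.add₁_comm T' x z h]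
  abel

theorem dv_cocycle (T : C) (p p' p'' : P.obj.obj (op T)) (q : Q.obj.obj (op T)) :
    dv D T p p' q + dv D T (p + p') p'' q = dv D T p' p'' q + dv D T p (p' + p'') q := by
  obtain ⟨R, hR, hl⟩ := lifts₂ B T p p' q q
  obtain ⟨R', hR', hw⟩ := B.locallySurjective T p'' q
  refine ext_ab D.I (J.intersection_covering hR hR') fun T' f hf => ?_
  obtain ⟨x, z, ⟨hxP, hxQ⟩, ⟨hzP, hzQ⟩⟩ := hl f hf.1
  obtain ⟨y, hyP, hyQ⟩ := hw f hf.2
  have h := hxQ.trans hzQ.symm
  have h' := hzQ.trans hyQ.symm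
  rw [map_add, map_add, dv_map_lift D f p p' q x z h hxP hzP hxQ, dv_map_lift D f p' p'' q z y h' hzP hyP hzQ,
    dv_map_lift D f (p + p') p'' q (B.add₁ T' x z h) y ((B.πQ_add₁ _ _ _ _).trans (h.trans h'))
      (by rw [B.πP_add₁, hxP, hzP, map_add]) hyP ((B.πQ_add₁ _ _ _ _).trans hxQ),
    dv_map_lift D f p (p' + p'') q x (B.add₁ T' z y h') (h.trans (B.πQ_add₁ _ _ _ _).symm) hxP
      (by rw [B.πP_add₁, hzP, hyP, map_add]) hxQ]
  simp only [defect]
  rw [B.add₁_assoc T' x z y h h']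
  abel

theorem dv_add_right (T : C) (p p' : P.obj.obj (op T)) (q q' : Q.obj.obj (op T)) :
    dv D T p p' (q + q') = dv D T p p' q + dv D T p p' q' := by
  obtain ⟨R, hR, hl⟩ := lifts₂ B T p p' q q
  obtain ⟨R', hR', hl'⟩ := lifts₂ B T p p' q' q'
  refine ext_ab D.I (J.intersection_covering hR hR') fun T' f hf => ?_
  obtain ⟨x, z, ⟨hxP, hxQ⟩, ⟨hzP, hzQ⟩⟩ := hl f hf.1
  obtain ⟨y, t, ⟨hyP, hyQ⟩, ⟨htP, htQ⟩⟩ := hl' f hf.2
  have hxz := hxQ.trans hzQ.symm
  have hyt := hyQ.trans htQ.symm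
  have hxy := hxP.trans hyP.symm
  have hzt := hzP.trans htP.symm
  rw [map_add, dv_map_lift D f p p' q x z hxz hxP hzP hxQ, dv_map_lift D f p p' q' y t hyt hyP htP hyQ,
    dv_map_lift D f p p' (q + q') (B.add₂ T' x y hxy) (B.add₂ T' z t hzt)
      ((B.πQ_add₂ T' x y hxy).trans ((congrArg₂ (· + ·) hxz hyt).trans (B.πQ_add₂ T' z t hzt).symm))
      ((B.πP_add₂ _ _ _ _).trans hxP) ((B.πP_add₂ _ _ _ _).trans hzP)
      (by rw [B.πQ_add₂, hxQ, hyQ, map_add])]
  simp only [defect]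
  rw [B.compat T' x y z t hxy hzt hxz hyt, D.R.r_add₂, D.R.r_add₂, D.R.r_add₂]
  abel

theorem wv_add_left (T : C) (p p' : P.obj.obj (op T)) (q : Q.obj.obj (op T)) :
    wv D T (p + p') q = wv D T p q + wv D T p' q + D.π.hom.app (op T) (dv D T p p' q) := by
  obtain ⟨R, hR, hl⟩ := lifts₂ B T p p' q q
  refine ext_ab D.K hR fun T' f hf => ?_
  obtain ⟨x, z, ⟨hxP, hxQ⟩, ⟨hzP, hzQ⟩⟩ := hl f hf
  have h := hxQ.trans hzQ.symm
  have e : D.K.obj.map f.op (D.π.hom.app (op T) (dv D T p p' q)) =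
      D.π.hom.app (op T') (D.I.obj.map f.op (dv D T p p' q)) :=
    (NatTrans.naturality_apply D.π.hom f.op _).symm
  rw [map_add, map_add, e, wv_map_lift D f p q x hxP hxQ, wv_map_lift D f p' q z hzP hzQ,
    dv_map_lift D f p p' q x z h hxP hzP hxQ,
    wv_map_lift D f (p + p') q (B.add₁ T' x z h) (by rw [B.πP_add₁, hxP, hzP, map_add])
      ((B.πQ_add₁ _ _ _ _).trans hxQ)]
  simp only [defect, map_sub]
  abel

/-- The homomorphism `ψ(p)`. -/
noncomputable def psi (U : C) (p : P.obj.obj (op U)) : (HomSh.homSh J Q D.K).obj.obj (op U) :=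
  mkHom (fun W q => wv D W.left (P.obj.map W.hom.op p) q) (fun W a b => wv_add_right D _ _ a b)
    (fun W W' m a => by rw [wv_map, ← res_comp, Over.w m])

/-- The homomorphism `δ(p, p')`. -/
noncomputable def delta (U : C) (p p' : P.obj.obj (op U)) : (HomSh.homSh J Q D.I).obj.obj (op U) :=
  mkHom (fun W q => dv D W.left (P.obj.map W.hom.op p) (P.obj.map W.hom.op p') q)
    (fun W a b => dv_add_right D _ _ _ a b) (fun W W' m a => by rw [dv_map, ← res_comp, ← res_comp, Over.w m])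

theorem psi_map {U V : C} (f : V ⟶ U) (p : P.obj.obj (op U)) :
    (HomSh.homSh J Q D.K).obj.map f.op (psi D U p) = psi D V (P.obj.map f.op p) :=
  hom_over_ext fun W a => by
    show wv D W.left (P.obj.map (W.hom ≫ f).op p) a = wv D W.left (P.obj.map W.hom.op (P.obj.map f.op p)) a
    rw [res_comp]

theorem delta_map {U V : C} (f : V ⟶ U) (p p' : P.obj.obj (op U)) :
    (HomSh.homSh J Q D.I).obj.map f.op (delta D U p p') = delta D V (P.obj.map f.op p) (P.obj.map f.op p') :=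
  hom_over_ext fun W a => by
    show dv D W.left (P.obj.map (W.hom ≫ f).op p) (P.obj.map (W.hom ≫ f).op p') a =
      dv D W.left (P.obj.map W.hom.op (P.obj.map f.op p)) (P.obj.map W.hom.op (P.obj.map f.op p')) a
    rw [res_comp, res_comp]

theorem delta_comm (U : C) (p p' : P.obj.obj (op U)) : delta D U p p' = delta D U p' p :=
  hom_over_ext fun W a => dv_comm D _ _ _ a

theorem delta_cocycle (U : C) (p p' p'' : P.obj.obj (op U)) :
    delta D U p p' + delta D U (p + p') p'' = delta D U p' p'' + delta D U p (p' + p'') :=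
  hom_over_ext fun W a => by
    show dv D W.left (P.obj.map W.hom.op p) (P.obj.map W.hom.op p') a +
        dv D W.left (P.obj.map W.hom.op (p + p')) (P.obj.map W.hom.op p'') a =
      dv D W.left (P.obj.map W.hom.op p') (P.obj.map W.hom.op p'') a +
        dv D W.left (P.obj.map W.hom.op p) (P.obj.map W.hom.op (p' + p'')) a
    rw [map_add, map_add]
    exact dv_cocycle D _ _ _ _ a

/-- Composition with `π`. -/
noncomputable def πH : HomSh.homSh J Q D.I ⟶ HomSh.homSh J Q D.K := HomSh.homShMap J (𝟙 Q) D.π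

theorem πH_apply {U : C} (h : (HomSh.homSh J Q D.I).obj.obj (op U)) (W : Over U) (a : Q.obj.obj (op W.left)) :
    ((πH D).hom.app (op U) h : Q.over U ⟶ D.K.over U).hom.app (op W) a =
      D.π.hom.app (op W.left) ((h : Q.over U ⟶ D.I.over U).hom.app (op W) a) := rfl

theorem psi_add (U : C) (p p' : P.obj.obj (op U)) :
    psi D U (p + p') = psi D U p + psi D U p' + (πH D).hom.app (op U) (delta D U p p') :=
  hom_over_ext fun W a => by
    show wv D W.left (P.obj.map W.hom.op (p + p')) a = wv D W.left (P.obj.map W.hom.op p) a +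
      wv D W.left (P.obj.map W.hom.op p') a +
      D.π.hom.app (op W.left) (dv D W.left (P.obj.map W.hom.op p) (P.obj.map W.hom.op p') a)
    rw [map_add]
    exact wv_add_left D _ _ _ a

end Datum

end Groth.Agent.BiextExt27
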