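import Groth.Agent.BiextExt27.Glue
import Mathlib.Algebra.DirectSum.Basic
import Mathlib.CategoryTheory.Sites.Limits
import Mathlib.Algebra.Category.Grp.EnoughInjectives
import Mathlib.CategoryTheory.Preadditive.Injective.Basic

/-!
# Retractions of a biextension into an injective sheaf

For a monomorphism of `G` into an injective sheaf `I` there is a natural map `E → I` which is equivariant and
additive for the second partial law: extend from the direct sums of copies of `G` to the direct sums of the
fibres over the sections of `P`.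
-/

set_option autoImplicit false
set_option backward.isDefEq.respectTransparency false
set_option backward.isDefEq.respectTransparency.types false

universe u

open CategoryTheory Opposite

namespace Groth.Agent.BiextExt27

variable {C : Type (u + 1)} [Category.{u} C] {J : GrothendieckTopology C}
  {P Q G : Sheaf J AddCommGrpCat.{u + 1}}

/-- An equivariant map `E → I`, additive for the second partial law. -/
structure Retr (B : Biext J P Q G) {I : Sheaf J AddCommGrpCat.{u + 1}} (i : G ⟶ I) where
  /-- the map on sections -/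
  r : ∀ T : C, B.E.obj.obj (op T) → I.obj.obj (op T)
  r_map : ∀ {T T' : C} (f : T' ⟶ T) (x : B.E.obj.obj (op T)),
    r T' (B.E.obj.map f.op x) = I.obj.map f.op (r T x)
  r_act : ∀ (T : C) (g : G.obj.obj (op T)) (x : B.E.obj.obj (op T)),
    r T (B.act T g x) = i.hom.app (op T) g + r T x
  r_add₂ : ∀ (T : C) (x y : B.E.obj.obj (op T)) (h : B.πP T x = B.πP T y),
    r T (B.add₂ T x y h) = r T x + r T y

variable (B : Biext J P Q G)

/-- The direct sum of the fibres. -/
abbrev Fr (T : C) : Type (u + 1) := DirectSum (P.obj.obj (op T)) (fun p => Fib B T p)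

/-- The direct sum of copies of `G`. -/
abbrev Ax (T : C) : Type (u + 1) :=
  DirectSum (P.obj.obj (op T)) (fun _ => (G.obj.obj (op T) : Type (u + 1)))

open Classical in
/-- The class of an element. -/
noncomputable def ofE {T : C} (x : B.E.obj.obj (op T)) : Fr B T :=
  DirectSum.of (fun p => Fib B T p) (B.πP T x) ⟨x, rfl⟩

open Classical in
theorem ofE_eq {T : C} (p : P.obj.obj (op T)) (x : Fib B T p) :
    DirectSum.of (fun p => Fib B T p) p x = ofE B x.1 := by
  obtain ⟨x, hx⟩ := x
  subst hx
  rfl

open Classical in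
theorem ofE_add₂ {T : C} (x y : B.E.obj.obj (op T)) (h : B.πP T x = B.πP T y) :
    ofE B (B.add₂ T x y h) = ofE B x + ofE B y := by
  let p := B.πP T x
  let x' : Fib B T p := ⟨x, rfl⟩
  let y' : Fib B T p := ⟨y, h.symm⟩
  have := map_add (DirectSum.of (fun p => Fib B T p) p) x' y'
  rw [ofE_eq, ofE_eq, ofE_eq] at this
  exact this

/-- Restriction between fibres. -/
noncomputable def resFib {T T' : C} (f : T' ⟶ T) (p : P.obj.obj (op T)) :
    Fib B T p →+ Fib B T' (P.obj.map f.op p) :=
  AddMonoidHom.mk' (fun x => ⟨B.E.obj.map f.op x.1, by rw [B.πP_map, x.2]⟩)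
    (fun x y => Subtype.ext (B.add₂_map f x.1 y.1 _))

open Classical in
/-- Restriction of the direct sums of fibres. -/
noncomputable def resFr {T T' : C} (f : T' ⟶ T) : Fr B T →+ Fr B T' :=
  DirectSum.toAddMonoid fun p => (DirectSum.of (fun p => Fib B T' p) (P.obj.map f.op p)).comp (resFib B f p)

open Classical in
theorem resFr_ofE {T T' : C} (f : T' ⟶ T) (x : B.E.obj.obj (op T)) :
    resFr B f (ofE B x) = ofE B (B.E.obj.map f.op x) := by
  rw [resFr, ofE, DirectSum.toAddMonoid_of]
  exact ofE_eq B _ _

open Classical in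
theorem hom_ext_ofE {T : C} {M : Type (u + 1)} [AddCommMonoid M] {a b : Fr B T →+ M}
    (h : ∀ x, a (ofE B x) = b (ofE B x)) : a = b := by
  refine DirectSum.addHom_ext fun p x => ?_
  rw [ofE_eq]
  exact h x.1

/-- The presheaf of direct sums of fibres. -/
noncomputable def frPre : Cᵒᵖ ⥤ AddCommGrpCat.{u + 1} where
  obj T := AddCommGrpCat.of (Fr B T.unop)
  map f := AddCommGrpCat.ofHom (resFr B f.unop)
  map_id T := AddCommGrpCat.hom_ext (hom_ext_ofE B fun x => by
    show resFr B (𝟙 T.unop) (ofE B x) = ofE B x
    rw [resFr_ofE, op_id, B.E.obj.map_id]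
    rfl)
  map_comp f g := AddCommGrpCat.hom_ext (hom_ext_ofE B fun x => by
    show resFr B (g.unop ≫ f.unop) (ofE B x) = resFr B g.unop (resFr B f.unop (ofE B x))
    rw [resFr_ofE, resFr_ofE, resFr_ofE, op_comp, Functor.map_comp, ConcreteCategory.comp_apply])

open Classical in
/-- Restriction of the sums of copies of `G`. -/
noncomputable def resAx {T T' : C} (f : T' ⟶ T) : Ax (P := P) (G := G) T →+ Ax (P := P) (G := G) T' :=
  DirectSum.toAddMonoid fun p =>
    (DirectSum.of (fun _ : P.obj.obj (op T') => (G.obj.obj (op T') : Type (u + 1))) (P.obj.map f.op p)).comp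
      (G.obj.map f.op).hom

open Classical in
theorem resAx_of {T T' : C} (f : T' ⟶ T) (p : P.obj.obj (op T)) (g : G.obj.obj (op T)) :
    resAx f (DirectSum.of (fun _ : P.obj.obj (op T) => (G.obj.obj (op T) : Type (u + 1))) p g) =
      DirectSum.of (fun _ : P.obj.obj (op T') => (G.obj.obj (op T') : Type (u + 1))) (P.obj.map f.op p)
        (G.obj.map f.op g) := by
  rw [resAx, DirectSum.toAddMonoid_of]
  rfl

open Classical in
/-- The presheaf of sums of copies of `G`. -/
noncomputable def axPre : Cᵒᵖ ⥤ AddCommGrpCat.{u + 1} where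
  obj T := AddCommGrpCat.of (Ax (P := P) (G := G) T.unop)
  map f := AddCommGrpCat.ofHom (resAx f.unop)
  map_id T := AddCommGrpCat.hom_ext (DirectSum.addHom_ext fun p g => by
    show resAx (𝟙 T.unop) (DirectSum.of _ p g) = DirectSum.of _ p g
    rw [resAx_of, res_id, res_id])
  map_comp f g := AddCommGrpCat.hom_ext (DirectSum.addHom_ext fun p a => by
    show resAx (g.unop ≫ f.unop) (DirectSum.of _ p a) = resAx g.unop (resAx f.unop (DirectSum.of _ p a))
    rw [resAx_of, resAx_of, resAx_of, res_comp, res_comp])

/-- Translation of the unit, as a homomorphism into the fibre. -/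
noncomputable def unitHom {T : C} (p : P.obj.obj (op T)) : G.obj.obj (op T) →+ Fib B T p :=
  AddMonoidHom.mk' (fun g => ⟨B.act T g (unit₂ B T p), (B.πP_act _ _ _).trans (unit₂_spec B T p).1⟩)
    (fun g g' => Subtype.ext (by
      show B.act T (g + g') (unit₂ B T p) = B.add₂ T (B.act T g (unit₂ B T p)) (B.act T g' (unit₂ B T p)) _
      rw [B.add₂_act T g (unit₂ B T p) (B.act T g' (unit₂ B T p)) (B.πP_act _ _ _).symm,
        add₂_act_right B g' (unit₂ B T p) (unit₂ B T p) rfl, ← B.add_act]
      exact congrArg _ (unit₂_spec B T p).2.2.symm))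

/-- Translations of the units. -/
noncomputable def inclApp (T : C) : Ax (P := P) (G := G) T →+ Fr B T :=
  DFinsupp.mapRange.addMonoidHom fun p => unitHom B p

open Classical in
theorem inclApp_of {T : C} (p : P.obj.obj (op T)) (g : G.obj.obj (op T)) :
    inclApp B T (DirectSum.of (fun _ : P.obj.obj (op T) => (G.obj.obj (op T) : Type (u + 1))) p g) =
      ofE B (B.act T g (unit₂ B T p)) :=
  (DFinsupp.mapRange_single (f := fun p => ⇑(unitHom B p)) (hf := fun p => map_zero (unitHom B p))).trans
    (ofE_eq B p (unitHom B p g))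

open Classical in
/-- The inclusion of presheaves. -/
noncomputable def incl : axPre (P := P) (G := G) ⟶ frPre B where
  app T := AddCommGrpCat.ofHom (inclApp B T.unop)
  naturality T T' f := AddCommGrpCat.hom_ext (DirectSum.addHom_ext fun p g => by
    show inclApp B T'.unop (resAx f.unop (DirectSum.of _ p g)) = resFr B f.unop (inclApp B T.unop (DirectSum.of _ p g))
    rw [resAx_of, inclApp_of, inclApp_of, resFr_ofE, B.act_map, unit₂_map])

theorem mono_incl : Mono (incl B) := by
  haveI : ∀ T, Mono ((incl B).app T) := fun T => (AddCommGrpCat.mono_iff_injective _).2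
    ((DFinsupp.mapRange_injective (fun p => ⇑(unitHom B p)) (fun p => map_zero (unitHom B p))).2 fun p g g' h =>
      act_inj B _ (congrArg Subtype.val h))
  exact NatTrans.mono_of_mono_app (incl B)

open Classical in
/-- The map to be extended. -/
noncomputable def axTo {I : Sheaf J AddCommGrpCat.{u + 1}} (i : G ⟶ I) : axPre (P := P) (G := G) ⟶ I.obj where
  app T := AddCommGrpCat.ofHom (DirectSum.toAddMonoid fun _ => (i.hom.app T).hom)
  naturality T T' f := AddCommGrpCat.hom_ext (DirectSum.addHom_ext fun p g => by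
    show DirectSum.toAddMonoid (fun _ => (i.hom.app T').hom) (resAx f.unop (DirectSum.of _ p g)) =
      I.obj.map f (DirectSum.toAddMonoid (fun _ => (i.hom.app T).hom) (DirectSum.of _ p g))
    rw [resAx_of, DirectSum.toAddMonoid_of, DirectSum.toAddMonoid_of]
    exact NatTrans.naturality_apply i.hom f g)

/-- Retractions exist. -/
theorem nonempty_retr [HasSheafify J AddCommGrpCat.{u + 1}] {I : Sheaf J AddCommGrpCat.{u + 1}} (i : G ⟶ I)
    [Injective I] : Nonempty (Retr B i) := by
  haveI : Injective I.obj := Injective.injective_of_adjoint (sheafificationAdjunction J AddCommGrpCat.{u + 1}) I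
  haveI := mono_incl B
  let ρ : frPre B ⟶ I.obj := Injective.factorThru (axTo i) (incl B)
  have hρ : ∀ (T : C) (p : P.obj.obj (op T)) (g : G.obj.obj (op T)),
      ρ.app (op T) (ofE B (B.act T g (unit₂ B T p))) = i.hom.app (op T) g := fun T p g => by
    classical
    have e := ConcreteCategory.congr_hom (congrArg (fun k => k.app (op T))
      (Injective.comp_factorThru (axTo i) (incl B)))
      (DirectSum.of (fun _ : P.obj.obj (op T) => (G.obj.obj (op T) : Type (u + 1))) p g)
    rw [← inclApp_of B p g]
    exact e.trans (DirectSum.toAddMonoid_of _ _ _)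
  refine ⟨⟨fun T x => ρ.app (op T) (ofE B x), fun {T T'} f x => ?_, fun T g x => ?_, fun T x y h => ?_⟩⟩
  · show ρ.app (op T') _ = I.obj.map f.op (ρ.app (op T) _)
    rw [← resFr_ofE B f x]
    exact NatTrans.naturality_apply ρ f.op (ofE B x)
  · show ρ.app (op T) _ = _ + ρ.app (op T) _
    have e : B.act T g x = B.add₂ T (B.act T g (unit₂ B T (B.πP T x))) x
        ((B.πP_act _ _ _).trans (unit₂_spec B T _).1) := by
      rw [B.add₂_act T g (unit₂ B T (B.πP T x)) x (unit₂_spec B T _).1, unit₂_add B _ x rfl]
    rw [e, ofE_add₂]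
    exact (map_add (ρ.app (op T)).hom _ _).trans (congrArg (· + _) (hρ T _ g))
  · show ρ.app (op T) _ = ρ.app (op T) _ + ρ.app (op T) _
    rw [ofE_add₂]
    exact map_add (ρ.app (op T)).hom _ _

end Groth.Agent.BiextExt27
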